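import Groth.Agent.S11926
import Groth.Agent.TrigSepLib.Quot
import Groth.Agent.LieKolchin.Generated
import Groth.Agent.RedTensor.Basic
import Groth.Agent.HopfFF.Coinv
import Mathlib

/-! An extension of an étale group by an infinitesimal one is split by the reduced subgroup. -/

set_option autoImplicit false
set_option backward.isDefEq.respectTransparency false
universe u

open TensorProduct WithConv

noncomputable section

namespace Groth.Agent.RedSect

variable {k : Type u} [Field k] {A C : Type u} [CommRing A] [HopfAlgebra k A] [Algebra.FiniteType k A]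
  [CommRing C] [HopfAlgebra k C]

omit [Algebra.FiniteType k A] in
/-- The identity is the only point of an infinitesimal group. -/
theorem point_eq_one [IsLocalRing A] {K : Type u} [Field K] [Algebra k K] [Algebra.IsAlgebraic k K]
    (z : A →ₐ[k] K) : z = (Algebra.ofId k K).comp (Bialgebra.counitAlgHom k A) := by
  let ε := Bialgebra.counitAlgHom k A
  have hmax : RingHom.ker ε = IsLocalRing.maximalIdeal A :=
    IsLocalRing.eq_maximalIdeal (RingHom.ker_isMaximal_of_surjective _ fun c => ⟨algebraMap k A c, ε.commutes c⟩)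
  have hker : ∀ a, ε a = 0 → z a = 0 := by
    intro a ha
    by_contra hne
    have hint : IsIntegral k (z a) := (Algebra.IsAlgebraic.isAlgebraic (z a)).isIntegral
    have hu : IsUnit (Polynomial.aeval a (minpoly k (z a))) := by
      by_contra hnu
      have h1 : Polynomial.aeval a (minpoly k (z a)) ∈ RingHom.ker ε :=
        hmax ▸ (IsLocalRing.mem_maximalIdeal _).mpr hnu
      rw [RingHom.mem_ker, ← Polynomial.aeval_algHom_apply, ha, ← Polynomial.coeff_zero_eq_aeval_zero] at h1
      exact minpoly.coeff_zero_ne_zero hint hne h1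
    have h2 := hu.map z
    rw [← Polynomial.aeval_algHom_apply, minpoly.aeval] at h2
    exact not_isUnit_zero h2
  refine AlgHom.ext fun a => ?_
  have h := hker (a - algebraMap k A (ε a)) (by rw [map_sub, AlgHom.commutes]; exact sub_self _)
  rw [map_sub, AlgHom.commutes, sub_eq_zero] at h
  exact h

variable (ψ : C →ₐc[k] A)

omit [Algebra.FiniteType k A] in
theorem point_ext (J : Ideal A) [J.IsHopfIdeal k] [IsLocalRing (A ⧸ J)]
    (hJ : J = Ideal.map (ψ : C →+* A) (RingHom.ker (Bialgebra.counitAlgHom k C)))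
    {K : Type u} [Field K] [Algebra k K] [Algebra.IsAlgebraic k K] (x y : A →ₐ[k] K)
    (h : x.comp (ψ : C →ₐ[k] A) = y.comp (ψ : C →ₐ[k] A)) : x = y := by
  let P : WithConv (A →ₐ[k] K) → WithConv (C →ₐ[k] K) := fun z => toConv (z.ofConv.comp (ψ : C →ₐ[k] A))
  have hP : ∀ a b, P (a * b) = P a * P b := fun a b =>
    WithConv.ofConv_injective (AlgHom.convMul_comp_bialgHom_distrib a b ψ)
  have hP1 : P 1 = 1 := by
    refine WithConv.ofConv_injective (AlgHom.ext fun c => ?_)
    show (1 : WithConv (A →ₐ[k] K)).ofConv (ψ c) = _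
    rw [AlgHom.convOne_apply, AlgHom.convOne_apply, CoalgHomClass.counit_comp_apply ψ c]
  let w : WithConv (A →ₐ[k] K) := toConv x * toConv (y.comp (HopfAlgebra.antipodeAlgHom k A))
  have hw : P w = 1 := by
    rw [hP, show P (toConv x) = P (toConv y) from WithConv.ofConv_injective h, ← hP, HopfFF.comp_antipode_right, hP1]
  have hJw : J ≤ RingHom.ker w.ofConv := by
    rw [hJ]
    refine Ideal.map_le_iff_le_comap.mpr fun b hb => ?_
    show w.ofConv (ψ b) = 0
    have h1 := AlgHom.congr_fun (congrArg WithConv.ofConv hw) b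
    change w.ofConv (ψ b) = _ at h1
    rw [h1, AlgHom.convOne_apply, show Coalgebra.counit (R := k) b = 0 from hb, map_zero]
  have hz := point_eq_one (Ideal.Quotient.liftₐ J w.ofConv fun a ha => hJw ha)
  have h1 : w = 1 := by
    refine WithConv.ofConv_injective (AlgHom.ext fun a => ?_)
    rw [AlgHom.convOne_apply]
    exact AlgHom.congr_fun hz (Ideal.Quotient.mk J a)
  have h2 : toConv x = toConv y := by
    rw [← mul_one (toConv x), ← HopfFF.comp_antipode_left y, ← mul_assoc, show _ * _ = (1 : WithConv (A →ₐ[k] K)) from h1,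
      one_mul]
  exact congrArg WithConv.ofConv h2

theorem bijective_red [PerfectField k] [Algebra.Etale k C] (hψ : Function.Injective ψ) (J : Ideal A)
    [J.IsHopfIdeal k] [IsLocalRing (A ⧸ J)]
    (hJ : J = Ideal.map (ψ : C →+* A) (RingHom.ker (Bialgebra.counitAlgHom k C))) :
    Function.Bijective ((Ideal.Quotient.mkₐ k (nilradical A)).comp (ψ : C →ₐ[k] A)) := by
  haveI : IsReduced C := Algebra.FormallyUnramified.isReduced_of_field k C
  haveI : Module.Finite k C := Algebra.FormallyUnramified.finite_of_free k C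
  let θ := (Ideal.Quotient.mkₐ k (nilradical A)).comp (ψ : C →ₐ[k] A)
  refine ⟨(injective_iff_map_eq_zero θ).mpr fun c hc => ?_, ?_⟩
  · have h1 : IsNilpotent (ψ c) := mem_nilradical.mp (Ideal.Quotient.eq_zero_iff_mem.mp hc)
    exact (IsNilpotent.map_iff (f := ψ) hψ).mp h1 |>.eq_zero
  let K := AlgebraicClosure k
  haveI : IsReduced (A ⧸ nilradical A) :=
    (Ideal.isRadical_iff_quotient_reduced _).mp (Ideal.radical_isRadical ⊥)
  haveI := RedTensor.isReduced_tensor k K (A ⧸ nilradical A)
  let θK : K ⊗[k] C →ₐ[K] K ⊗[k] (A ⧸ nilradical A) := Algebra.TensorProduct.map (AlgHom.id K K) θ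
  have hinj : Function.Injective fun χ : K ⊗[k] (A ⧸ nilradical A) →ₐ[K] K => χ.comp θK := by
    intro χ₁ χ₂ h
    refine Algebra.TensorProduct.ext (Subsingleton.elim _ _) (AlgHom.ext fun e => ?_)
    obtain ⟨a, rfl⟩ := Ideal.Quotient.mk_surjective e
    let pt : (K ⊗[k] (A ⧸ nilradical A) →ₐ[K] K) → (A →ₐ[k] K) := fun χ =>
      ((χ.restrictScalars k).comp Algebra.TensorProduct.includeRight).comp (Ideal.Quotient.mkₐ k (nilradical A))
    have := point_ext ψ J hJ (pt χ₁) (pt χ₂) (AlgHom.ext fun c => by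
      have h1 := AlgHom.congr_fun h ((1 : K) ⊗ₜ[k] c)
      simpa [pt, θK, θ] using h1)
    exact AlgHom.congr_fun this a
  haveI : Finite (K ⊗[k] (A ⧸ nilradical A) →ₐ[K] K) := Finite.of_injective _ hinj
  have hsurj : Function.Surjective θK := by
    intro z
    let I : (K ⊗[k] (A ⧸ nilradical A) →ₐ[K] K) → Ideal (K ⊗[k] C) := fun χ => RingHom.ker (χ.comp θK)
    have hI : Pairwise (Function.onFun IsCoprime I) := by
      intro χ₁ χ₂ hne
      have hm : ∀ χ, (I χ).IsMaximal := fun χ =>
        RingHom.ker_isMaximal_of_surjective _ fun c => ⟨algebraMap K _ c, (χ.comp θK).commutes c⟩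
      refine Ideal.isCoprime_iff_sup_eq.mpr ((hm χ₁).coprime_of_ne (hm χ₂) fun he => hne (hinj ?_))
      refine AlgHom.ext fun w => ?_
      have h1 : w - algebraMap K _ ((χ₁.comp θK) w) ∈ I χ₁ := by
        rw [RingHom.mem_ker, map_sub, AlgHom.commutes]
        exact sub_self _
      rw [he, RingHom.mem_ker, map_sub, AlgHom.commutes, sub_eq_zero] at h1
      exact h1.symm
    obtain ⟨c, hc⟩ := Ideal.exists_forall_sub_mem_ideal hI (fun χ => algebraMap K (K ⊗[k] C) (χ z))
    refine ⟨c, sub_eq_zero.mp (LieKolchin.eq_zero_of_forall_pt (k := K) (.inr inferInstance) fun χ => ?_)⟩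
    have h1 := hc χ
    rw [RingHom.mem_ker, map_sub, AlgHom.commutes, sub_eq_zero] at h1
    rw [map_sub, sub_eq_zero]
    exact h1
  have h2 : Function.Surjective (θ.toLinearMap.lTensor K) := fun y => by
    obtain ⟨x, hx⟩ := hsurj y
    refine ⟨x, (?_ : _ = θK x).trans hx⟩
    clear hx
    induction x with
    | zero => simp
    | add p q hp hq => simp only [map_add, hp, hq]
    | tmul p q => simp [θK]
  exact (Module.FaithfullyFlat.lTensor_surjective_iff_surjective k K θ.toLinearMap).mp h2

theorem main [PerfectField k] [Algebra.Etale k C] (hψ : Function.Injective ψ) (J : Ideal A)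
    (hJ : J = Ideal.map (ψ : C →+* A) (RingHom.ker (Bialgebra.counitAlgHom k C))) [J.IsHopfIdeal k]
    [IsLocalRing (A ⧸ J)] :
    (∃! r : A →ₐc[k] C, r.comp ψ = BialgHom.id k C) ∧
    ∀ r : A →ₐc[k] C, r.comp ψ = BialgHom.id k C → RingHom.ker (r : A →+* C) = nilradical A := by
  haveI := S11926.result k A
  haveI : IsReduced C := Algebra.FormallyUnramified.isReduced_of_field k C
  have hb := bijective_red ψ hψ J hJ
  let π : A →ₐc[k] A ⧸ nilradical A := Bialgebra.Quotient.mkBialgHom (R := k) (nilradical A)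
  obtain ⟨g, hg⟩ := TrigSep.exists_factor (π.comp ψ) hb.2 (BialgHom.id k C) fun x hx => by
    exact hb.1 (hx.trans (map_zero _).symm)
  have hr : (g.comp π).comp ψ = BialgHom.id k C := BialgHom.ext fun c => hg c
  have huniq : ∀ r : A →ₐc[k] C, r.comp ψ = BialgHom.id k C → ∀ a c, π (ψ c) = π a → r a = c := by
    intro r hr a c h
    have h1 : IsNilpotent (r (ψ c - a)) := (mem_nilradical.mp (Ideal.Quotient.eq.mp h)).map r
    have h2 := h1.eq_zero
    rw [map_sub, sub_eq_zero] at h2
    exact h2.symm.trans (DFunLike.congr_fun hr c)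
  refine ⟨⟨g.comp π, hr, fun r hr' => BialgHom.ext fun a => ?_⟩, fun r hr' => ?_⟩
  · obtain ⟨c, hc⟩ := hb.2 (π a)
    exact (huniq r hr' a c hc).trans (huniq _ hr a c hc).symm
  · refine le_antisymm (fun a ha => ?_) fun a ha => ?_
    · obtain ⟨c, hc⟩ := hb.2 (π a)
      have h0 : c = 0 := (huniq r hr' a c hc).symm.trans ha
      refine Ideal.Quotient.eq_zero_iff_mem.mp ?_
      show π a = 0
      rw [← show π (ψ c) = π a from hc, h0, map_zero, map_zero]
    · exact ((mem_nilradical.mp ha).map r).eq_zero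

end Groth.Agent.RedSect
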